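import Mathlib.Combinatorics.SimpleGraph.Acyclic
import Mathlib.Combinatorics.SimpleGraph.Finite
import Mathlib.Algebra.Module.BigOperators
import Mathlib.Algebra.Module.Pi
import Mathlib.Algebra.BigOperators.Pi
import Mathlib.Tactic.Abel

/-!
Edge labellings of bipartite graphs with prescribed vertex sums.
-/

set_option autoImplicit false

universe u v

open Finset

namespace Groth.L14.Graph

variable {V : Type u} [Fintype V] [DecidableEq V] (G : SimpleGraph V) [DecidableRel G.Adj] {A : Type v} [AddCommGroup A]

/-- The vertex sums of a labelling. -/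
def bd : (Sym2 V → A) →+ (V → A) where
  toFun x v := ∑ e ∈ G.incidenceFinset v, x e
  map_zero' := funext fun v => by simp
  map_add' x y := funext fun v => by simp [Finset.sum_add_distrib]

theorem bd_apply (x : Sym2 V → A) (v : V) : bd G x v = ∑ e ∈ G.incidenceFinset v, x e := rfl

theorem bd_single {a b : V} (h : G.Adj a b) (t : A) :
    bd G (Pi.single s(a, b) t) = Pi.single a t + Pi.single b t := by
  funext v
  rw [bd_apply, Finset.sum_pi_single', Pi.add_apply]
  simp only [SimpleGraph.mem_incidenceFinset, SimpleGraph.mk'_mem_incidenceSet_iff, Pi.single_apply]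
  by_cases ha : v = a <;> by_cases hb : v = b
  · exact absurd (ha.symm.trans hb) h.ne
  all_goals simp [ha, hb, h]
  all_goals simp_all [eq_comm]

variable (c : V → Bool)

/-- The sign of a colour. -/
def eps (v : V) : ℤ := if c v then 1 else -1

omit [Fintype V] [DecidableEq V] in
theorem eps_mul_self (v : V) : eps c v * eps c v = 1 := by cases h : c v <;> simp [eps, h]

omit [Fintype V] [DecidableEq V] in
theorem eps_of_ne {v w : V} (h : c v ≠ c w) : eps c w = -eps c v := by
  cases hv : c v <;> cases hw : c w <;> simp_all [eps]

/-- Transport of `t` along a walk in a subgraph. -/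
theorem exists_transport (H : SimpleGraph V) (hH : H ≤ G) (hbip : ∀ a b : V, G.Adj a b → c a ≠ c b) {a b : V}
    (h : H.Reachable a b) :
    ∃ φ : A →+ (Sym2 V → A), (∀ t e, e ∉ H.edgeSet → φ t e = 0) ∧
      ∀ t, bd G (φ t) = Pi.single a (eps c a • t) - Pi.single b (eps c b • t) := by
  obtain ⟨p⟩ := h
  induction p with
  | nil => exact ⟨0, fun _ _ _ => rfl, fun t => by simp⟩
  | @cons a b d hab p ih =>
    obtain ⟨φ, hφ, hb⟩ := ih
    refine ⟨{ toFun := fun t => Pi.single s(a, b) (eps c a • t) + φ t
              map_zero' := by simp
              map_add' := fun x y => by simp only [smul_add, map_add, Pi.single_add]; abel }, fun t e he => ?_, fun t => ?_⟩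
    · show (Pi.single s(a, b) (eps c a • t) : Sym2 V → A) e + φ t e = 0
      rw [hφ t e he, add_zero, Pi.single_eq_of_ne]
      rintro rfl
      exact he hab
    · show bd G (Pi.single s(a, b) (eps c a • t) + φ t) = _
      rw [map_add, bd_single G (hH hab), hb, eps_of_ne c (hbip a b (hH hab)), neg_smul, Pi.single_neg]
      abel

/-- Pairing a vertex weight with the vertex sums. -/
theorem pairing (w : V → ℤ) (x : Sym2 V → A) (f : Sym2 V → ℤ) (hf : ∀ a b : V, G.Adj a b → f s(a, b) = w a + w b) :
    ∑ v, w v • bd G x v = ∑ e ∈ G.edgeFinset, f e • x e := by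
  have hx : ∀ v, bd G x v = bd G (∑ e ∈ G.edgeFinset, Pi.single e (x e)) v := by
    intro v
    rw [bd_apply, bd_apply]
    refine Finset.sum_congr rfl fun e he => ?_
    rw [Finset.sum_apply, Finset.sum_pi_single, if_pos]
    rw [SimpleGraph.mem_edgeFinset]
    exact G.incidenceSet_subset v ((SimpleGraph.mem_incidenceFinset _ _ _).mp he)
  simp only [hx, map_sum, Finset.sum_apply, Finset.smul_sum]
  rw [Finset.sum_comm]
  refine Finset.sum_congr rfl fun e he => ?_
  induction e using Sym2.ind with
  | _ a b =>
    rw [SimpleGraph.mem_edgeFinset] at he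
    simp only [bd_single G (show G.Adj a b from he), Pi.add_apply, smul_add, Finset.sum_add_distrib, Pi.single_apply,
      smul_ite, smul_zero, Finset.sum_ite_eq', Finset.mem_univ, if_true, hf a b he, add_smul]

/-- A labelling of a bipartite tree with zero vertex sums vanishes. -/
theorem eq_zero_of_tree (T : SimpleGraph V) (hT : T.IsAcyclic) (hTG : T ≤ G)
    (hbip : ∀ a b : V, G.Adj a b → c a ≠ c b) (x : Sym2 V → A) (hx : ∀ e, e ∉ T.edgeSet → x e = 0)
    (h0 : bd G x = 0) : x = 0 := by
  classical
  funext e
  by_cases he : e ∈ T.edgeSet
  · induction e using Sym2.ind with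
    | _ a b =>
      have hab : T.Adj a b := he
      have hbr : T.IsBridge s(a, b) := SimpleGraph.isAcyclic_iff_forall_adj_isBridge.mp hT hab
      rw [SimpleGraph.isBridge_iff] at hbr
      let T' := T.deleteEdges {s(a, b)}
      let w : V → ℤ := fun v => if T'.Reachable a v then eps c v else 0
      let f : Sym2 V → ℤ := Sym2.lift ⟨fun p q => w p + w q, fun p q => add_comm _ _⟩
      have h := pairing G w x f (fun p q _ => rfl)
      simp only [h0, Pi.zero_apply, smul_zero, Finset.sum_const_zero] at h
      rw [Finset.sum_eq_single s(a, b)] at h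
      · have hfe : f s(a, b) = eps c a := by
          show w a + w b = _
          simp only [w]
          rw [if_pos (SimpleGraph.Reachable.refl a), if_neg hbr, add_zero]
        rw [hfe] at h
        have := congrArg (fun z => eps c a • z) h.symm
        simpa [smul_smul, eps_mul_self] using this
      · intro e he' hne
        by_cases heT : e ∈ T.edgeSet
        · induction e using Sym2.ind with
          | _ p q =>
            have hpq : T'.Adj p q := by
              simp only [T', SimpleGraph.deleteEdges_adj, Set.mem_singleton_iff]
              exact ⟨heT, hne⟩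
            have : f s(p, q) = 0 := by
              show w p + w q = 0
              simp only [w]
              by_cases hp : T'.Reachable a p
              · rw [if_pos hp, if_pos (hp.trans hpq.reachable), eps_of_ne c (hbip p q (hTG heT))]; simp
              · rw [if_neg hp, if_neg (fun hq => hp (hq.trans hpq.reachable.symm)), add_zero]
            rw [this, zero_smul]
        · rw [hx e heT, smul_zero]
      · intro hn
        exact absurd (SimpleGraph.mem_edgeFinset.mpr (SimpleGraph.edgeSet_mono hTG he)) hn
  · exact hx e he

end Groth.L14.Graph
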